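import Mathlib.RingTheory.LocalRing.Module
import Mathlib.RingTheory.Localization.AtPrime.Basic
import Mathlib.RingTheory.Flat.FaithfullyFlat.Basic
import Mathlib

/-!
# Maps into free modules which stay injective at a point split near it
-/

set_option autoImplicit false
set_option linter.style.haveILetI false
universe u

open TensorProduct

namespace Groth.Agent.H8Props.SplitFibres

/-- A left inverse, up to a scalar not vanishing in `K`. -/
theorem exists_smul_retraction {A K N L : Type u} [CommRing A] [Field K] [Algebra A K]
    [AddCommGroup N] [Module A N] [Module.Finite A N]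
    [AddCommGroup L] [Module A L] [Module.Free A L] [Module.Finite A L]
    (l : N →ₗ[A] L) (hl : Function.Injective (l.baseChange K)) :
    ∃ (f : A) (ρ : L →ₗ[A] N), algebraMap A K f ≠ 0 ∧ ∀ n, ρ (l n) = f • n := by
  classical
  let p := RingHom.ker (algebraMap A K)
  haveI : p.IsPrime := RingHom.ker_isPrime _
  let R := Localization.AtPrime p
  have hu : ∀ s : p.primeCompl, IsUnit (algebraMap A K s) := fun s =>
    isUnit_iff_ne_zero.2 fun h => s.2 (RingHom.mem_ker.2 h)
  let φ : R →+* K := IsLocalization.lift (M := p.primeCompl) hu
  have hφ : ∀ a, φ (algebraMap A R a) = algebraMap A K a := IsLocalization.lift_eq hu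
  haveI : IsLocalHom φ := ⟨fun r hr => by
    obtain ⟨a, s, rfl⟩ := IsLocalization.exists_mk'_eq p.primeCompl r
    refine IsLocalization.AtPrime.isUnit_mk'_iff R p a s |>.2 fun ha => ?_
    exact hr.ne_zero (by
      have h0 := congrArg φ (IsLocalization.mk'_spec R a s)
      rw [map_mul, hφ, hφ, RingHom.mem_ker.1 ha] at h0
      exact (mul_eq_zero.1 h0).resolve_right (hu s).ne_zero)⟩
  let ψ : IsLocalRing.ResidueField R →+* K := IsLocalRing.ResidueField.lift φ
  letI : Algebra (IsLocalRing.ResidueField R) K := ψ.toAlgebra
  letI : Algebra R K := φ.toAlgebra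
  haveI : IsScalarTower A R K := .of_algebraMap_eq fun a => (hφ a).symm
  haveI : IsScalarTower R (IsLocalRing.ResidueField R) K :=
    .of_algebraMap_eq fun r => (IsLocalRing.ResidueField.lift_residue_apply φ r).symm
  let lR := l.baseChange R
  have h1 : Function.Injective (lR.baseChange K) := by
    have e : ∀ z, TensorProduct.AlgebraTensorModule.cancelBaseChange A R K K L (lR.baseChange K z) =
        l.baseChange K (TensorProduct.AlgebraTensorModule.cancelBaseChange A R K K N z) := by
      intro z
      induction z using TensorProduct.induction_on with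
      | zero => simp
      | tmul a y =>
        induction y using TensorProduct.induction_on with
        | zero => simp
        | tmul r n => simp [lR]
        | add y y' hy hy' => simp only [tmul_add, map_add, hy, hy']
      | add z z' hz hz' => simp only [map_add, hz, hz']
    intro z z' h
    apply (TensorProduct.AlgebraTensorModule.cancelBaseChange A R K K N).injective
    apply hl
    rw [← e, ← e, h]
  have h2 : Function.Injective (lR.lTensor (IsLocalRing.ResidueField R)) := by
    let κ := IsLocalRing.ResidueField R
    intro z z' h
    let j : κ ⊗[R] (R ⊗[A] N) →ₗ[R] K ⊗[R] (R ⊗[A] N) :=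
      (IsScalarTower.toAlgHom R κ K).toLinearMap.rTensor _
    have hj : Function.Injective j := by
      -- a map of vector spaces split over the residue field
      obtain ⟨π, hπ⟩ := (Algebra.linearMap κ K).exists_leftInverse_of_injective
        (LinearMap.ker_eq_bot.2 (algebraMap κ K).injective)
      have hπ' : ∀ x, π (algebraMap κ K x) = x := fun x => LinearMap.congr_fun hπ x
      intro a b hab
      have := congrArg ((π.restrictScalars R).rTensor (R ⊗[A] N)) hab
      simp only [j, ← LinearMap.comp_apply, ← LinearMap.rTensor_comp] at this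
      have e : (π.restrictScalars R).comp (IsScalarTower.toAlgHom R κ K).toLinearMap = LinearMap.id :=
        LinearMap.ext hπ'
      rwa [e, LinearMap.rTensor_id] at this
    apply hj
    apply h1
    have key : ∀ w, lR.baseChange K (j w) =
        (IsScalarTower.toAlgHom R κ K).toLinearMap.rTensor _ (lR.lTensor κ w) := by
      intro w
      induction w using TensorProduct.induction_on with
      | zero => simp
      | tmul a n => simp [j]
      | add a b ha hb => simp only [map_add, ha, hb]
    rw [key, key, h]
  obtain ⟨ρR, hρR⟩ := (IsLocalRing.split_injective_iff_lTensor_residueField_injective lR).2 h2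
  haveI hloc : IsLocalizedModule p.primeCompl (TensorProduct.mk A R N 1) :=
    (isLocalizedModule_iff_isBaseChange p.primeCompl R _).2 (TensorProduct.isBaseChange A N R)
  let b := Module.Free.chooseBasis A L
  obtain ⟨s, hs⟩ := IsLocalizedModule.exist_integer_multiples_of_finite p.primeCompl (TensorProduct.mk A R N 1)
    fun i => ρR (1 ⊗ₜ b i)
  choose m hm using hs
  let ρ := b.constr A m
  have hρ : ∀ x, (1 : R) ⊗ₜ ρ x = (s : A) • ρR (1 ⊗ₜ x) := by
    intro x
    have e : (TensorProduct.mk A R N 1).comp ρ =
        (s : A) • ((ρR.restrictScalars A).comp (TensorProduct.mk A R L 1)) :=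
      b.ext fun i => by
        simp only [LinearMap.comp_apply, ρ, Module.Basis.constr_basis, LinearMap.smul_apply]
        exact hm i
    exact LinearMap.congr_fun e x
  have hkill : ∀ n : N, ∃ t : p.primeCompl, (t : A) • (ρ (l n) - (s : A) • n) = 0 := fun n => by
    obtain ⟨t, ht⟩ := (IsLocalizedModule.eq_zero_iff p.primeCompl (TensorProduct.mk A R N 1)
      (m := ρ (l n) - (s : A) • n)).1 (by
        rw [map_sub, map_smul]
        show (1 : R) ⊗ₜ ρ (l n) - _ = 0
        rw [hρ]
        have : ρR (1 ⊗ₜ l n) = (1 : R) ⊗ₜ n := by
          have := LinearMap.congr_fun hρR (1 ⊗ₜ n)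
          simpa [lR] using this
        rw [this]
        exact sub_self _)
    exact ⟨t, ht⟩
  choose t ht using hkill
  obtain ⟨G, hG⟩ := (inferInstance : Module.Finite A N).fg_top
  let T : p.primeCompl := ∏ n ∈ G, t n
  refine ⟨(T : A) * s, (T : A) • ρ, fun h => (T * s).2 (RingHom.mem_ker.2 h), fun n => ?_⟩
  have hn : n ∈ Submodule.span A (G : Set N) := hG ▸ Submodule.mem_top
  induction hn using Submodule.span_induction with
  | mem g hg =>
    rw [LinearMap.smul_apply, mul_smul, ← sub_eq_zero, ← smul_sub]
    have hT : T = (∏ i ∈ G.erase g, t i) * t g := (Finset.prod_erase_mul _ _ hg).symm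
    rw [hT, Submonoid.coe_mul, mul_smul, ht g, smul_zero]
  | zero => simp
  | add a b _ _ ha hb => simp only [map_add, smul_add, ha, hb]
  | smul c a _ ha => rw [map_smul, map_smul, ha, smul_comm]

end Groth.Agent.H8Props.SplitFibres
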