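import Groth.Agent.H8Props.SplitFibres.Algebra
import Groth.Agent.H28Pinch.FreeBasisIso
import Groth.Agent.H17.PullSect
import Groth.Agent.H17.FPExt.Basic
import Groth.Agent.H17.FPExt.Closure
import Groth.Agent.H17.FPExt.Compact

/-!
# A map into a finite locally free module split at a field-valued point splits near it
-/

set_option autoImplicit false
set_option linter.style.haveILetI false
universe u

open CategoryTheory CategoryTheory.Limits AlgebraicGeometry TopologicalSpace Opposite TensorProduct

namespace Groth.Agent.H8Props.SplitFibres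

variable {X Y Z : Scheme.{u}}

/-- The pullback of `u` has a left inverse. -/
def Split (h : Y ⟶ X) {F V : X.Modules} (u : F ⟶ V) : Prop :=
  ∃ r : (Scheme.Modules.pullback h).obj V ⟶ (Scheme.Modules.pullback h).obj F,
    (Scheme.Modules.pullback h).map u ≫ r = 𝟙 _

/-- Left inverses travel along natural transformations of functors which are isomorphisms. -/
theorem split_of_natIso {C D : Type*} [Category C] [Category D] {G G' : C ⥤ D} (e : G ≅ G')
    {A B : C} (u : A ⟶ B) (h : ∃ r, G.map u ≫ r = 𝟙 _) : ∃ r, G'.map u ≫ r = 𝟙 _ := by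
  obtain ⟨r, hr⟩ := h
  refine ⟨e.inv.app B ≫ r ≫ e.hom.app A, ?_⟩
  rw [← Category.assoc, e.inv.naturality, Category.assoc, reassoc_of% hr, Iso.inv_hom_id_app]

theorem split_comp_iff (g : Z ⟶ Y) (h : Y ⟶ X) {F V : X.Modules} (u : F ⟶ V) :
    Split g ((Scheme.Modules.pullback h).map u) ↔ Split (g ≫ h) u :=
  ⟨split_of_natIso (Scheme.Modules.pullbackComp g h) u, split_of_natIso (Scheme.Modules.pullbackComp g h).symm u⟩

theorem Split.comp {h : Y ⟶ X} {F V : X.Modules} {u : F ⟶ V} (H : Split h u) (g : Z ⟶ Y) :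
    Split (g ≫ h) u := by
  obtain ⟨r, hr⟩ := H
  exact (split_comp_iff g h u).1 ⟨(Scheme.Modules.pullback g).map r, by rw [← Functor.map_comp, hr, CategoryTheory.Functor.map_id]⟩

theorem split_congr {h h' : Y ⟶ X} (e : h = h') {F V : X.Modules} {u : F ⟶ V} : Split h u ↔ Split h' u := by
  rw [e]

theorem split_iff_of_iso (h : Y ⟶ X) {F V V' : X.Modules} (u : F ⟶ V) (e : V ≅ V') :
    Split h (u ≫ e.hom) ↔ Split h u := by
  constructor
  · rintro ⟨r, hr⟩
    exact ⟨(Scheme.Modules.pullback h).map e.hom ≫ r, by rwa [← Category.assoc, ← Functor.map_comp]⟩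
  · rintro ⟨r, hr⟩
    refine ⟨(Scheme.Modules.pullback h).map e.inv ≫ r, ?_⟩
    rw [← Category.assoc, ← Functor.map_comp, Category.assoc, e.hom_inv_id, Category.comp_id, hr]

/-- If `u` is split at a point with values in a field, it is split near the point: affine, free case. -/
theorem exists_split_affine [IsAffine X] {F : X.Modules} (hF : Coh.IsQCoh F) (hFt : CohB1.IsFT F) {n : ℕ}
    (u : F ⟶ FlatMod.freeMod X n) {K : Type u} [Field K] (y : Spec (CommRingCat.of K) ⟶ X)
    (hy : Split y u) :
    ∃ D : X.Opens, (∀ t, y t ∈ D) ∧ Split D.ι u := by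
  classical
  haveI : F.IsQuasicoherent := hF
  let V := FlatMod.freeMod X n
  let W : X.Opens := ⊤
  have hW : IsAffineOpen W := isAffineOpen_top X
  let P := Spec (CommRingCat.of K)
  let T : P.Opens := ⊤
  have hT : IsAffineOpen T := isAffineOpen_top P
  have hTW : T ≤ y ⁻¹ᵁ W := fun _ _ => trivial
  -- the field
  let K' := Γ(P, T)
  letI : Field K' := ((Scheme.ΓSpecIso (CommRingCat.of K)).commRingCatIsoToRingEquiv.toMulEquiv.isField
    (Field.toIsField K)).toField
  letI : Algebra Γ(X, W) K' := (y.appLE W T hTW).hom.toAlgebra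
  haveI : Module.Finite Γ(X, W) Γ(F, W) := H10Coh.finite_sections F hFt hW
  let gens : Fin n → Γ(V, W) := fun j => H29Fitt.gen X n j W
  let v : (Fin n → Γ(X, W)) →ₗ[Γ(X, W)] Γ(V, W) := Fintype.linearCombination Γ(X, W) gens
  have hv : Function.Bijective v :=
    ⟨fun c c' h => sub_eq_zero.1 (H29Fitt.gen_independent n W (c - c') (by
      simp only [Pi.sub_apply, sub_smul, Finset.sum_sub_distrib, sub_eq_zero]
      simpa [v, gens, Fintype.linearCombination_apply] using h)),
    fun z => by
      obtain ⟨c, hc⟩ := H29Fitt.exists_eq_sum_gen n W z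
      exact ⟨c, by simpa [v, gens, Fintype.linearCombination_apply] using hc⟩⟩
  let b : Module.Basis (Fin n) Γ(X, W) Γ(V, W) :=
    Module.Basis.ofEquivFun (LinearEquiv.ofBijective v hv).symm
  have hbj : ∀ j, b j = gens j := fun j => by
    simp [b, v, Fintype.linearCombination_apply, Pi.single_apply]
  haveI : Module.Free Γ(X, W) Γ(V, W) := Module.Free.of_basis b
  haveI : Module.Finite Γ(X, W) Γ(V, W) := Module.Finite.of_basis b
  have hV : Coh.IsQCoh V := H29Fitt.isQuasicoherent_freeMod X n
  let l : Γ(F, W) →ₗ[Γ(X, W)] Γ(V, W) := H17.FPExt.appLin' u W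
  have hl : Function.Injective (l.baseChange K') := by
    obtain ⟨r, hr⟩ := hy
    letI := Module.compHom Γ((Scheme.Modules.pullback y).obj F, T) (y.appLE W T hTW).hom
    letI := Module.compHom Γ((Scheme.Modules.pullback y).obj V, T) (y.appLE W T hTW).hom
    haveI : IsScalarTower Γ(X, W) K' Γ((Scheme.Modules.pullback y).obj F, T) :=
      .of_algebraMap_smul fun _ _ => rfl
    haveI : IsScalarTower Γ(X, W) K' Γ((Scheme.Modules.pullback y).obj V, T) :=
      .of_algebraMap_smul fun _ _ => rfl
    let EF := (H8Props.PullSections.isBaseChange_pullLin y F hTW hF hW hT).equiv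
    let EV := (H8Props.PullSections.isBaseChange_pullLin y V hTW hV hW hT).equiv
    let yu := (Scheme.Modules.pullback y).map u
    have key : ∀ z, EV (l.baseChange K' z) = yu.app T (EF z) := by
      intro z
      induction z using TensorProduct.induction_on with
      | zero => simp only [map_zero]
      | tmul a m =>
        simp only [EF, EV, LinearMap.baseChange_tmul, IsBaseChange.equiv_tmul]
        refine Eq.trans ?_ (Scheme.Modules.Hom.app_smul yu a _).symm
        refine congrArg (a • ·) ?_
        show ((Scheme.Modules.pullback y).obj V).presheaf.map (homOfLE hTW).op (OmegaSh.pullSect y V W (u.app W m)) =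
          yu.app T (((Scheme.Modules.pullback y).obj F).presheaf.map (homOfLE hTW).op (OmegaSh.pullSect y F W m))
        rw [H11Tilde.app_map_apply]
        exact congrArg _ (H17.PullSect.pullSect_natural y u W m)
      | add z z' hz hz' => simp only [map_add, hz, hz']
    have hinj : Function.Injective (yu.app T) := Function.LeftInverse.injective (g := r.app T) fun s =>
      congr($(congr(Scheme.Modules.Hom.app $hr T)) s)
    intro z z' h
    exact EF.injective (hinj (by rw [← key, ← key, h]))
  obtain ⟨f, ρ, hf, hρ⟩ := exists_smul_retraction l hl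
  let ρs : V ⟶ F := H29Fitt.freeHom F fun j => ρ (b j)
  have hρs : ∀ z, ρs.app W z = ρ z := by
    intro z
    rw [← b.sum_repr z, map_sum, map_sum]
    refine Finset.sum_congr rfl fun j _ => ?_
    rw [Scheme.Modules.Hom.app_smul, map_smul, hbj]
    refine congrArg _ ?_
    show (H29Fitt.freeHom F fun j => ρ (b j)).app W (H29Fitt.gen X n j W) = _
    rw [H29Fitt.freeHom_gen, H10Coh.mres_self, hbj]
  have hcomp : ∀ m : Γ(F, W), (u ≫ ρs).app W m = f • m := fun m => by
    rw [Scheme.Modules.Hom.comp_app, ConcreteCategory.comp_apply, hρs]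
    exact hρ m
  refine ⟨X.basicOpen f, fun t => ?_, ?_⟩
  · have h1 : IsUnit (y.appLE W T hTW f) := isUnit_iff_ne_zero.2 hf
    have h2 := P.basicOpen_of_isUnit h1
    rw [Scheme.basicOpen_appLE] at h2
    exact (h2.ge (show t ∈ T from trivial)).2
  haveI : IsIso ((Scheme.Modules.restrictFunctor (X.basicOpen f).ι).map (u ≫ ρs)) :=
    H17.FPExt.isIso_restrict_of_isoAt _ _ fun z => H17.FPExt.isoAt_of_torsion hF hF (u ≫ ρs) hW f
      (fun a ha => ⟨1, by rw [pow_one, ← hcomp]; exact ha⟩) (fun c => ⟨1, c, by rw [pow_one, hcomp]⟩) z.2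
  refine split_of_natIso (Scheme.Modules.restrictFunctorIsoPullback (X.basicOpen f).ι) u
    ⟨(Scheme.Modules.restrictFunctor (X.basicOpen f).ι).map ρs ≫
      inv ((Scheme.Modules.restrictFunctor (X.basicOpen f).ι).map (u ≫ ρs)), ?_⟩
  rw [← Category.assoc, ← Functor.map_comp, IsIso.hom_inv_id]

/-- If `u` is split at a point with values in a field, it is split near the point. -/
theorem exists_split {F V : X.Modules} (hF : Coh.IsQCoh F) (hFt : CohB1.IsFT F)
    (hV : FlatMod.IsFinLocFree V) (u : F ⟶ V) {K : Type u} [Field K] (y : Spec (CommRingCat.of K) ⟶ X)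
    (hy : Split y u) (t : Spec (CommRingCat.of K)) : ∃ U : X.Opens, y t ∈ U ∧ Split U.ι u := by
  obtain ⟨U, n, hxU, ⟨e⟩⟩ := hV (y t)
  obtain ⟨m, hm⟩ := H28Pinch.exists_isBasisOn_of_chart V e
  obtain ⟨W, hW, hxW, hWU⟩ := exists_isAffineOpen_mem_and_subset (U := U) hxU
  obtain ⟨eW⟩ := H28Pinch.nonempty_chart_of_isBasisOn (hm.mono hWU)
  haveI : IsAffine W.toScheme := hW
  let a : (Scheme.Modules.pullback W.ι).obj V ≅ FlatMod.freeMod (↑W) n :=
    (Scheme.Modules.restrictFunctorIsoPullback W.ι).symm.app V ≪≫ eW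
  have hrange : Set.range y ⊆ Set.range W.ι := by
    rintro _ ⟨t', rfl⟩
    rw [Scheme.Opens.range_ι, Subsingleton.elim t' t]
    exact hxW
  let y' := IsOpenImmersion.lift W.ι y hrange
  have hy' : Split y' ((Scheme.Modules.pullback W.ι).map u ≫ a.hom) := by
    rw [split_iff_of_iso, split_comp_iff, split_congr (IsOpenImmersion.lift_fac W.ι y hrange)]
    exact hy
  obtain ⟨D, hD, hs⟩ := exists_split_affine (H29Fitt.isQCoh_pullback W.ι F hF)
    (H29Fitt.isFT_pullback W.ι F hF hFt) _ y' hy'
  rw [split_iff_of_iso, split_comp_iff] at hs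
  have hlift : W.ι (y' t) = y t := by
    rw [← Scheme.Hom.comp_apply, IsOpenImmersion.lift_fac]
  refine ⟨W.ι ''ᵁ D, ⟨y' t, hD t, hlift⟩, ?_⟩
  have hr : Set.range (W.ι ''ᵁ D).ι ⊆ Set.range (D.ι ≫ W.ι) := by
    rw [Scheme.Opens.range_ι]
    rintro _ ⟨w, hw, rfl⟩
    exact ⟨⟨w, hw⟩, rfl⟩
  exact (split_congr (IsOpenImmersion.lift_fac (D.ι ≫ W.ι) _ hr)).1
    (hs.comp (IsOpenImmersion.lift (D.ι ≫ W.ι) _ hr))

/-- A map split near the image of a point is split near the point after pullback. -/
theorem exists_split_pullback (h : Y ⟶ X) {F V : X.Modules} {u : F ⟶ V} {U : X.Opens} (H : Split U.ι u) :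
    Split (h ⁻¹ᵁ U).ι ((Scheme.Modules.pullback h).map u) := by
  rw [split_comp_iff, ← morphismRestrict_ι]
  exact H.comp _

/-- A map split near every point of a scheme over `X` is split near every point of its image. -/
theorem exists_split_of_pullback {F V : X.Modules} (hF : Coh.IsQCoh F) (hFt : CohB1.IsFT F)
    (hV : FlatMod.IsFinLocFree V) (u : F ⟶ V) (h : Y ⟶ X) (z : Y) {U : Y.Opens} (hz : z ∈ U)
    (H : Split U.ι ((Scheme.Modules.pullback h).map u)) : ∃ U' : X.Opens, h z ∈ U' ∧ Split U'.ι u := by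
  rw [split_comp_iff] at H
  let q := Y.fromSpecResidueField z
  have hr : Set.range q ⊆ Set.range U.ι := by
    rw [Scheme.range_fromSpecResidueField, Scheme.Opens.range_ι]
    simpa using hz
  have hy : Split (q ≫ h) u := by
    have := H.comp (IsOpenImmersion.lift U.ι q hr)
    rwa [split_congr (show IsOpenImmersion.lift U.ι q hr ≫ U.ι ≫ h = q ≫ h by
      rw [IsOpenImmersion.lift_fac_assoc])] at this
  obtain ⟨U', hU', hs⟩ := exists_split hF hFt hV u (K := Y.residueField z) (q ≫ h) hy
    (default : PrimeSpectrum (Y.residueField z))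
  refine ⟨U', ?_, hs⟩
  rwa [Scheme.Hom.comp_apply, Scheme.fromSpecResidueField_apply] at hU'

end Groth.Agent.H8Props.SplitFibres
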